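import Cfsg.Agent.Lib.Helper70.J1O.Defs
import Cfsg.Agent.S4700
import Cfsg.Agent.Lib.Helper29.Cores
import Cfsg.Agent.Lib.Helper7.PSL2OddG

set_option autoImplicit false

namespace Cfsg.Agent.Lib.Helper70.J1O

universe u

variable {X : Type u} [Group X] [Finite X]

omit [Finite X] in
theorem t8_perf [IsSimpleGroup X] (hna : ¬ ∀ a b : X, a * b = b * a) : commutator X = ⊤ := by
  rcases IsSimpleGroup.eq_bot_or_eq_top_of_normal (commutator X) inferInstance with h | h
  · exfalso
    apply hna
    intro a b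
    have h1 : a * b * a⁻¹ * b⁻¹ ∈ commutator X :=
      Subgroup.commutator_mem_commutator (Subgroup.mem_top a) (Subgroup.mem_top b)
    rw [h, Subgroup.mem_bot] at h1
    calc a * b = (a * b * a⁻¹ * b⁻¹) * (b * a) := by group
      _ = b * a := by rw [h1, one_mul]
  · exact h

theorem t8_two {F : Type} [Field F] [Fintype F] (h : Odd (Fintype.card F)) : (2 : F) ≠ 0 := by
  intro h2
  have h1 : addOrderOf (1 : F) ∣ 2 := by
    apply addOrderOf_dvd_of_nsmul_eq_zero
    simpa using h2
  have h3 : addOrderOf (1 : F) ∣ Fintype.card F := addOrderOf_dvd_card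
  have h4 : addOrderOf (1 : F) ≠ 1 := by
    rw [Ne, AddMonoid.addOrderOf_eq_one_iff]
    exact one_ne_zero
  have h5 : addOrderOf (1 : F) = 2 := ((Nat.dvd_prime Nat.prime_two).1 h1).resolve_left h4
  rw [h5] at h3
  exact (Nat.not_even_iff_odd.2 h) (even_iff_two_dvd.2 h3)

/-- T8 (Brauer, = S4700) -/
theorem brauer_eq [IsSimpleGroup X] (hna : ¬ ∀ a b : X, a * b = b * a) (p : ℕ) [Fact p.Prime]
    (P : Sylow p X) (hP : Nat.card P = p) (n : ℕ) (hn : Nat.card (Sylow p X) = 1 + n * p)
    (hp : p = 3 ∨ p = 11 ∨ p = 19) (h9 : ¬ 9 ∣ Nat.card X) (h660 : Nat.card X ≠ 660) :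
    ∃ h u : ℕ, 0 < h ∧ 0 < u ∧ n * (u + 1) = h * u * p + u ^ 2 + u + h := by
  have hperf : commutator X = ⊤ := t8_perf hna
  rcases Cfsg.Agent.S4700.result hperf p P hP n hn with h1 | h1 | h1
  · exfalso
    obtain ⟨F, _, _, hF, h3, ⟨e⟩⟩ := h1
    have hpX : p ∣ Nat.card X := hP ▸ Subgroup.card_subgroup_dvd_card (P : Subgroup X)
    have hcore : Cfsg.pPrimeCore p X = ⊥ := by
      rcases IsSimpleGroup.eq_bot_or_eq_top_of_normal (Cfsg.pPrimeCore p X) inferInstance with h | h
      · exact h
      · exfalso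
        have h4 := Cfsg.Agent.Lib.Helper29.card_pPrimeCore_coprime (G := X) (Fact.out : p.Prime)
        rw [h, Subgroup.card_top] at h4
        have h5 : p ∣ Nat.gcd (Nat.card X) p := Nat.dvd_gcd hpX dvd_rfl
        rw [h4] at h5
        exact (Fact.out : p.Prime).one_lt.ne' (Nat.dvd_one.1 h5)
    have hc : Nat.card X = Nat.card (Matrix.ProjectiveSpecialLinearGroup (Fin 2) F) := by
      have h4 := Subgroup.card_eq_card_quotient_mul_card_subgroup (Cfsg.pPrimeCore p X)
      rw [Subgroup.card_eq_one.2 hcore, mul_one, Nat.card_congr e.toEquiv] at h4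
      exact h4
    have hodd : Odd (Fintype.card F) := by
      rw [hF]
      rcases hp with rfl | rfl | rfl <;> decide
    have h6 := Cfsg.Agent.Lib.Helper7.PMax.two_mul_card_PSL (t8_two hodd)
    rw [hF, ← hc] at h6
    rcases hp with rfl | rfl | rfl
    · omega
    · apply h660
      norm_num at h6
      omega
    · apply h9
      norm_num at h6
      exact ⟨380, by omega⟩
  · exfalso
    obtain ⟨m, F, _, _, hF, hpm, h3, _⟩ := h1
    rcases hp with rfl | rfl | rfl
    · omega
    · rcases Nat.lt_or_ge m 4 with h | h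
      · interval_cases m <;> omega
      · have := Nat.pow_le_pow_right (show 1 ≤ 2 by norm_num) h
        omega
    · rcases Nat.lt_or_ge m 5 with h | h
      · interval_cases m <;> omega
      · have := Nat.pow_le_pow_right (show 1 ≤ 2 by norm_num) h
        omega
  · exact h1

end Cfsg.Agent.Lib.Helper70.J1O
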