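import Cfsg.Agent.Lib.Helper70.J1O.Tk1
import Cfsg.Agent.Lib.Helper70.J1O.Tk2
import Cfsg.Agent.Lib.Helper70.J1O.T8
import Cfsg.Agent.Lib.Helper13.J1OArith

set_option autoImplicit false

namespace Cfsg.Agent.Lib.Helper70.J1O

universe u

variable {X : Type u} [Group X] [Finite X]

/-- N19A -/
theorem n19 [IsSimpleGroup X] (hna : ¬ ∀ a b : X, a * b = b * a) (hd : Nat.card X ∣ 175560)
    (h19 : 19 ∣ Nat.card X) : Nat.card (Sylow 19 X) = 210 ∨ Nat.card (Sylow 19 X) = 1540 := by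
  obtain ⟨P⟩ : Nonempty (Sylow 19 X) := inferInstance
  have h361 : ¬ 19 ^ 2 ∣ Nat.card X := fun h => by
    have := h.trans hd
    norm_num at this
  have hP := card_syl 19 P h19 h361
  obtain ⟨h1, h2, h3, h4⟩ := syl_data 19 P hP
  have hge := nsyl_ge hna h19 19 h19
  obtain ⟨c, hc⟩ := h3.trans h4
  have hdvd : Nat.card (Sylow 19 X) ∣ 9240 := by
    have h5 : Nat.card (Sylow 19 X) * (19 * c) ∣ 19 * 9240 := by rw [← hc, h2]; exact hd
    have h6 : 19 * (Nat.card (Sylow 19 X) * c) ∣ 19 * 9240 := by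
      have e : 19 * (Nat.card (Sylow 19 X) * c) = Nat.card (Sylow 19 X) * (19 * c) := by ring
      rw [e]; exact h5
    have h7 := Nat.dvd_of_mul_dvd_mul_left (by norm_num) h6
    exact (Dvd.intro _ rfl).trans h7
  have hn : Nat.card (Sylow 19 X) ∈ [20, 77, 210, 1540] :=
    Cfsg.Agent.Lib.Helper13.J1O.mem_of_filter 9241 9240 19 _ (by decide +kernel) _
      (Nat.lt_succ_of_le (Nat.le_of_dvd (by norm_num) hdvd)) hdvd h1 hge
  simp only [List.mem_cons, List.not_mem_nil, or_false] at hn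
  have h9 : ¬ 9 ∣ Nat.card X := fun h => by
    have := h.trans hd
    norm_num at this
  have h660 : Nat.card X ≠ 660 := fun h => by
    rw [h] at h19
    norm_num at h19
  rcases hn with h | h | h | h
  · exfalso
    obtain ⟨hh, u, hh0, hu0, he⟩ := brauer_eq hna 19 P hP 1 (by rw [h]) (Or.inr (Or.inr rfl)) h9 h660
    nlinarith [Nat.mul_pos hh0 hu0]
  · exfalso
    obtain ⟨hh, u, hh0, hu0, he⟩ := brauer_eq hna 19 P hP 4 (by rw [h]) (Or.inr (Or.inr rfl)) h9 h660
    nlinarith [Nat.mul_pos hh0 hu0]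
  · left; exact h
  · right; exact h

end Cfsg.Agent.Lib.Helper70.J1O
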