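import Cfsg.Agent.Lib.Helper70.J1O.Tk2
import Cfsg.Agent.Lib.Helper70.J1O.T8
import Cfsg.Agent.Lib.Helper70.J1O.N19A

set_option autoImplicit false

namespace Cfsg.Agent.Lib.Helper70.J1O

universe u

variable {X : Type u} [Group X] [Finite X]



theorem a_mem_filter {M p n N : ℕ} (hM : M ≠ 0) (h : n * N = M) (h1 : n % p = 1) (h2 : 19 ≤ n) :
    n ∈ (Nat.divisors M).filter (fun n => n % p = 1 ∧ 19 ≤ n) :=
  Finset.mem_filter.mpr ⟨Nat.mem_divisors.mpr ⟨⟨N, h.symm⟩, hM⟩, h1, h2⟩

theorem a_brauer6 (h u : ℕ) (hh : 0 < h) (hu : 0 < u)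
    (e : 6 * (u + 1) = h * u * 3 + u ^ 2 + u + h) : False := by
  have hu3 : u ≤ 3 := by
    by_contra hcon
    have h4 : 4 ≤ u := by omega
    nlinarith [Nat.mul_le_mul hh hu]
  have hh3 : h ≤ 5 := by
    by_contra hcon
    have h4 : 6 ≤ h := by omega
    nlinarith [Nat.mul_le_mul h4 hu]
  interval_cases u <;> interval_cases h <;> omega

/-- a subgroup of order `p` is (the carrier of) a Sylow subgroup when `p ∥ |X|` -/
theorem a_exists_sylow (p : ℕ) [Fact p.Prime] (h1 : p ∣ Nat.card X) (h2 : ¬ p ^ 2 ∣ Nat.card X)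
    (Q : Subgroup X) (hQ : Nat.card Q = p) : ∃ S : Sylow p X, (S : Subgroup X) = Q := by
  have hp : IsPGroup p Q := IsPGroup.of_card (n := 1) (by rw [hQ, pow_one])
  obtain ⟨S, hS⟩ := hp.exists_le_sylow
  refine ⟨S, (Subgroup.eq_of_le_of_card_ge hS ?_).symm⟩
  rw [card_syl p S h1 h2, hQ]

/-- step (4): the local contradiction -/
theorem a_local (P3 : Sylow 3 X) (P5 : Sylow 5 X) (hc : Nat.card X = 7980) (hP3 : Nat.card P3 = 3)
    (hN3 : nN P3 = 60) (hC3 : nC P3 = 30) (hN5 : nN P5 = 30) : False := by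
  set L := Subgroup.normalizer ((P3 : Subgroup X) : Set X) with hL
  set C := Subgroup.centralizer ((P3 : Subgroup X) : Set X) with hC
  have hLc : Nat.card L = 60 := hN3
  have hCc : Nat.card C = 30 := hC3
  have hCL : C ≤ L := Subgroup.centralizer_le_normalizer _
  obtain ⟨y, hy⟩ := exists_prime_orderOf_dvd_card' (G := C) 5 (by rw [hCc]; norm_num)
  have hy' : orderOf (y : X) = 5 := by rw [Subgroup.orderOf_coe, hy]
  set Q := Subgroup.zpowers (y : X) with hQ
  have hQc : Nat.card Q = 5 := by rw [hQ, Nat.card_zpowers, hy']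
  have hQC : Q ≤ C := by rw [hQ, Subgroup.zpowers_le]; exact y.2
  have hQL : Q ≤ L := hQC.trans hCL
  -- `Q` as a Sylow subgroup of `X`
  obtain ⟨QS, hQS⟩ := a_exists_sylow 5 (by rw [hc]; norm_num) (by rw [hc]; norm_num) Q hQc
  have hNQ : Nat.card (Subgroup.normalizer (Q : Set X)) = 30 := by
    have := (nN_eq 5 QS P5).1
    rw [hN5] at this
    rw [← hQS]; exact this
  -- `Q` as a Sylow subgroup of `L`
  have hQ'c : Nat.card (Q.subgroupOf L) = 5 := by
    rw [Nat.card_congr (Subgroup.subgroupOfEquivOfLe hQL).toEquiv, hQc]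
  obtain ⟨QL, hQLs⟩ := a_exists_sylow (X := L) 5 (by rw [hLc]; norm_num) (by rw [hLc]; norm_num)
    (Q.subgroupOf L) hQ'c
  have hQLc : Nat.card QL = 5 := by rw [hQLs]; exact hQ'c
  obtain ⟨m5, e5, -, -⟩ := syl_data 5 QL hQLc
  rw [hLc] at e5
  set M := Subgroup.normalizer ((QL : Subgroup L) : Set L) with hM
  have hMc : nN QL = Nat.card M := rfl
  -- `|M|` divides `30`
  have h30 : Nat.card M ∣ 30 := by
    have h1 : M.map L.subtype ≤ Subgroup.normalizer (Q : Set X) := by
      rintro _ ⟨g, hg, rfl⟩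
      rw [Subgroup.mem_normalizer_iff]
      intro x
      have hg' : g ∈ Subgroup.normalizer ((QL : Subgroup L) : Set L) := hg
      rw [Subgroup.mem_normalizer_iff] at hg'
      show x ∈ Q ↔ (g : X) * x * (g : X)⁻¹ ∈ Q
      constructor
      · intro hx
        have := (hg' ⟨x, hQL hx⟩).mp (by rw [hQLs]; exact Subgroup.mem_subgroupOf.mpr hx)
        rw [hQLs] at this
        exact Subgroup.mem_subgroupOf.mp this
      · intro hx
        have hxL : x ∈ L := by
          have h2 : (g : X)⁻¹ * ((g : X) * x * (g : X)⁻¹) * (g : X) ∈ L :=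
            L.mul_mem (L.mul_mem (L.inv_mem g.2) (hQL hx)) g.2
          have e : (g : X)⁻¹ * ((g : X) * x * (g : X)⁻¹) * (g : X) = x := by group
          rwa [e] at h2
        have := (hg' ⟨x, hxL⟩).mpr (by rw [hQLs]; exact Subgroup.mem_subgroupOf.mpr hx)
        rw [hQLs] at this
        exact Subgroup.mem_subgroupOf.mp this
    have h2 := Subgroup.card_dvd_of_le h1
    rw [hNQ, Nat.card_congr (M.equivMapOfInjective L.subtype L.subtype_injective).toEquiv.symm] at h2
    exact h2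
  -- `3` divides `|M|`
  have h3 : 3 ∣ Nat.card M := by
    have hPL : (P3 : Subgroup X) ≤ L := Subgroup.le_normalizer
    have h1 : (P3 : Subgroup X).subgroupOf L ≤ M := by
      intro g hg
      have hgP : (g : X) ∈ (P3 : Subgroup X) := Subgroup.mem_subgroupOf.mp hg
      rw [hM, Subgroup.mem_normalizer_iff]
      intro x
      have key : ∀ z : L, z ∈ (QL : Subgroup L) → g * z * g⁻¹ = z := by
        intro z hz
        rw [hQLs] at hz
        have hzC : (z : X) ∈ C := hQC (Subgroup.mem_subgroupOf.mp hz)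
        have := Subgroup.mem_centralizer_iff.mp hzC g hgP
        apply Subtype.ext
        show (g : X) * z * (g : X)⁻¹ = z
        rw [this, mul_inv_cancel_right]
      constructor
      · intro hx
        rw [key x hx]; exact hx
      · intro hx
        have h5 := key _ hx
        have h6 : g * x * g⁻¹ = x := by
          have : g * (g * x * g⁻¹) * g⁻¹ = g * x * g⁻¹ := h5
          have e : x = g⁻¹ * (g * x * g⁻¹) * g := by group
          calc g * x * g⁻¹ = g⁻¹ * (g * (g * x * g⁻¹) * g⁻¹) * g := by group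
            _ = g⁻¹ * (g * x * g⁻¹) * g := by rw [this]
            _ = x := e.symm
        rw [← h6]; exact hx
    have h2 := Subgroup.card_dvd_of_le h1
    rw [Nat.card_congr (Subgroup.subgroupOfEquivOfLe hPL).toEquiv, hP3] at h2
    exact h2
  rw [hMc] at e5
  obtain ⟨a, ha⟩ := h3
  obtain ⟨b, hb⟩ := h30
  -- arithmetic
  have hM30 : Nat.card M ≤ 30 := Nat.le_of_dvd (by norm_num) ⟨b, hb⟩
  have hmem : Nat.card M ∈ (Nat.divisors 30).filter (fun n => 3 ∣ n) :=
    Finset.mem_filter.mpr ⟨Nat.mem_divisors.mpr ⟨⟨b, hb⟩, by norm_num⟩, ⟨a, ha⟩⟩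
  have hset : (Nat.divisors 30).filter (fun n => 3 ∣ n) = {3, 6, 15, 30} := by decide +kernel
  rw [hset] at hmem
  simp only [Finset.mem_insert, Finset.mem_singleton] at hmem
  rcases hmem with h | h | h | h <;> rw [h] at e5 <;> omega

theorem caseA [IsSimpleGroup X] (hna : ¬ ∀ a b : X, a * b = b * a) (hc : Nat.card X = 7980) : False := by
  obtain ⟨P19⟩ : Nonempty (Sylow 19 X) := inferInstance
  obtain ⟨P5⟩ : Nonempty (Sylow 5 X) := inferInstance
  obtain ⟨P3⟩ : Nonempty (Sylow 3 X) := inferInstance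
  have hP19 : Nat.card P19 = 19 := card_syl 19 P19 (by rw [hc]; norm_num) (by rw [hc]; norm_num)
  have hP5 : Nat.card P5 = 5 := card_syl 5 P5 (by rw [hc]; norm_num) (by rw [hc]; norm_num)
  have hP3 : Nat.card P3 = 3 := card_syl 3 P3 (by rw [hc]; norm_num) (by rw [hc]; norm_num)
  obtain ⟨-, e19, -, d19⟩ := syl_data 19 P19 hP19
  obtain ⟨m5, e5, c5, d5⟩ := syl_data 5 P5 hP5
  obtain ⟨m3, e3, c3, d3⟩ := syl_data 3 P3 hP3
  rw [hc] at e19 e5 e3
  -- (1)
  have hN19 : nN P19 = 38 := by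
    rcases n19 hna (by rw [hc]; norm_num) (by rw [hc]; norm_num) with h | h
    · rw [h] at e19; omega
    · rw [h] at e19; omega
  -- (2)
  have g5 : 19 ≤ Nat.card (Sylow 5 X) := nsyl_ge hna (by rw [hc]; norm_num) 5 (by rw [hc]; norm_num)
  obtain ⟨e, he1, he2, he3⟩ := burnside hna 5 P5 hP5
  have hmem := a_mem_filter (by norm_num) e5 m5 g5
  have hset : (Nat.divisors 7980).filter (fun n => n % 5 = 1 ∧ 19 ≤ n) = {21, 76, 266, 1596} := by
    decide +kernel
  rw [hset] at hmem
  simp only [Finset.mem_insert, Finset.mem_singleton] at hmem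
  have he4 : e = 2 ∨ e = 4 := by
    have h4 : e ≤ 4 := Nat.le_of_dvd (by norm_num) he2
    interval_cases e
    · exact Or.inl rfl
    · norm_num at he2
    · exact Or.inr rfl
  have hN5 : nN P5 = 30 := by
    rcases hmem with h | h | h | h
    · exfalso
      have hN : nN P5 = 380 := by rw [h] at e5; omega
      have h1 : 5 ∣ nC P19 := cross 5 19 P5 P19 hP5 hP19 (by rw [hN]; norm_num) (by norm_num) (by norm_num)
      have h2 : 5 ∣ 38 := hN19 ▸ h1.trans d19
      omega
    · exfalso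
      have hN : nN P5 = 105 := by rw [h] at e5; omega
      rw [hN] at he3
      rcases he4 with rfl | rfl <;> omega
    · rw [h] at e5; omega
    · exfalso
      have hN : nN P5 = 5 := by rw [h] at e5; omega
      rw [hN] at he3
      rcases he4 with rfl | rfl <;> omega
  -- (3)
  have h53 : 5 ∣ nC P3 := cross 5 3 P5 P3 hP5 hP3 (by rw [hN5]; norm_num) (by norm_num) (by norm_num)
  obtain ⟨e', he1', he2', he3'⟩ := burnside hna 3 P3 hP3
  have he' : e' = 2 := by
    have h4 : e' ≤ 2 := Nat.le_of_dvd (by norm_num) he2'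
    omega
  subst he'
  have h15 : 15 ∣ nC P3 := Nat.Coprime.mul_dvd_of_dvd_of_dvd (by norm_num : Nat.Coprime 3 5) c3 h53
  obtain ⟨c, hc3⟩ := h15
  have g3 : 19 ≤ Nat.card (Sylow 3 X) := nsyl_ge hna (by rw [hc]; norm_num) 3 (by rw [hc]; norm_num)
  have e3' : Nat.card (Sylow 3 X) * c = 266 := by
    rw [he3', hc3] at e3
    have h0 : Nat.card (Sylow 3 X) * (2 * (15 * c)) = 30 * (Nat.card (Sylow 3 X) * c) := by ring
    have h1 : 30 * (Nat.card (Sylow 3 X) * c) = 30 * 266 := by rw [← h0, e3]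
    exact Nat.eq_of_mul_eq_mul_left (by norm_num) h1
  have hmem3 := a_mem_filter (by norm_num) e3' m3 g3
  have hset3 : (Nat.divisors 266).filter (fun n => n % 3 = 1 ∧ 19 ≤ n) = {19, 133} := by
    decide +kernel
  rw [hset3] at hmem3
  simp only [Finset.mem_insert, Finset.mem_singleton] at hmem3
  rcases hmem3 with h | h
  · obtain ⟨a, b, ha, hb, hab⟩ := brauer_eq hna 3 P3 hP3 6 (by rw [h]) (Or.inl rfl)
      (by rw [hc]; norm_num) (by rw [hc]; norm_num)
    exact a_brauer6 a b ha hb hab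
  · have hN3 : nN P3 = 60 := by rw [h] at e3; omega
    have hC3 : nC P3 = 30 := by rw [hN3] at he3'; omega
    exact a_local P3 P5 hc hP3 hN3 hC3 hN5

end Cfsg.Agent.Lib.Helper70.J1O
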