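import Cfsg.Agent.Lib.Helper70.J1O.Tk2
import Cfsg.Agent.Lib.Helper70.J1O.N19A
import Cfsg.Agent.S0111

set_option autoImplicit false

namespace Cfsg.Agent.Lib.Helper70.J1O

open Subgroup

universe u

variable {X : Type u} [Group X] [Finite X]

/-- the unique involution of a cyclic group of order 4 -/
theorem b_invol {c y : X} (hc : orderOf c = 4) (hy : y ∈ zpowers c) (hy2 : orderOf y = 2) : y = c ^ 2 := by
  classical
  rw [mem_zpowers_iff_mem_range_orderOf, hc] at hy
  obtain ⟨k, hk, rfl⟩ := Finset.mem_image.1 hy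
  rw [Finset.mem_range] at hk
  interval_cases k
  · rw [pow_zero, orderOf_one] at hy2; omega
  · rw [pow_one, hc] at hy2; omega
  · rfl
  · rw [Nat.Coprime.orderOf_pow (by rw [hc]; decide), hc] at hy2; omega

theorem b_conj_order (x y : X) : orderOf (x * y * x⁻¹) = orderOf y :=
  (MulAut.conj x).orderOf_eq y

/-- a group all of whose elements in `S` have no order 4 and whose order is 8 is abelian -/
theorem b_exists_four (S : Subgroup X) (hS : Nat.card S = 8)
    (hna : ¬ ∀ a ∈ S, ∀ b ∈ S, a * b = b * a) : ∃ c ∈ S, orderOf c = 4 := by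
  by_contra hcon
  apply hna
  have hsq : ∀ x ∈ S, x * x = 1 := by
    intro x hx
    have h1 : orderOf x ∣ 8 := hS ▸ Subgroup.orderOf_dvd_natCard S hx
    have h2 : orderOf x ≤ 8 := Nat.le_of_dvd (by norm_num) h1
    have h3 : 0 < orderOf x := orderOf_pos x
    have h4 : orderOf x ≠ 4 := fun h => hcon ⟨x, hx, h⟩
    have h8 : orderOf x ≠ 8 := by
      intro h
      apply hcon
      refine ⟨x ^ 2, S.pow_mem hx 2, ?_⟩
      rw [orderOf_pow_of_dvd (by norm_num) (by rw [h]; norm_num), h]
    have h5 : orderOf x ∣ 2 := by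
      interval_cases h : orderOf x <;> omega
    rw [← sq]
    exact orderOf_dvd_iff_pow_eq_one.1 h5
  intro a ha b hb
  have h1 := hsq (a * b) (S.mul_mem ha hb)
  have ha' : a⁻¹ = a := inv_eq_of_mul_eq_one_left (hsq a ha)
  have hb' : b⁻¹ = b := inv_eq_of_mul_eq_one_left (hsq b hb)
  have h2 : (a * b)⁻¹ = a * b := inv_eq_of_mul_eq_one_left h1
  rw [← h2, mul_inv_rev, ha', hb']

theorem caseB [IsSimpleGroup X] (hna : ¬ ∀ a b : X, a * b = b * a) (hc : Nat.card X = 15960)
    (ih : ∀ H : Subgroup X, H ≠ ⊤ → N19 H) : False := by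
  classical
  obtain ⟨P⟩ : Nonempty (Sylow 19 X) := inferInstance
  have hP : Nat.card P = 19 := card_syl 19 P (by rw [hc]; norm_num) (by rw [hc]; norm_num)
  obtain ⟨-, hnN, h19C, -⟩ := syl_data 19 P hP
  have hn19 := n19 hna (by rw [hc]; norm_num) (by rw [hc]; norm_num)
  rw [hc] at hnN
  have hN76 : nN P = 76 := by
    rcases hn19 with h | h <;> rw [h] at hnN <;> omega
  obtain ⟨e, he1, he18, heq⟩ := burnside hna 19 P hP
  rw [hN76] at heq
  have hC38 : nC P = 38 := by
    obtain ⟨m, hm⟩ := h19C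
    rw [hm] at heq ⊢
    have he : e ≤ 18 := Nat.le_of_dvd (by norm_num) he18
    have hm4 : e * m = 4 := by nlinarith
    have : e = 2 := by
      interval_cases e <;> omega
    subst this
    omega
  -- an involution centralizing P
  have h2C : 2 ∣ Nat.card (centralizer ((P : Subgroup X) : Set X)) := by
    change 2 ∣ nC P
    rw [hC38]; norm_num
  obtain ⟨z', hz'⟩ := exists_prime_orderOf_dvd_card' 2 h2C
  set z : X := (z' : X) with hz
  have hz2 : orderOf z = 2 := by rw [hz, Subgroup.orderOf_coe]; exact hz'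
  have hz1 : z ≠ 1 := by
    intro h
    rw [h, orderOf_one] at hz2
    omega
  have hzP : z ∈ centralizer ((P : Subgroup X) : Set X) := z'.2
  set Cz := centralizer ({z} : Set X) with hCz
  have hCztop : Cz ≠ ⊤ := by
    intro htop
    have hzc : z ∈ center X := by
      rw [mem_center_iff]
      intro g
      have hg : g ∈ Cz := htop ▸ mem_top g
      rw [hCz, mem_centralizer_singleton_iff] at hg
      exact hg
    rcases (inferInstance : (center X).Normal).eq_bot_or_eq_top with h | h
    · rw [h, mem_bot] at hzc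
      exact hz1 hzc
    · apply hna
      intro a b
      have ha : a ∈ center X := h ▸ mem_top a
      exact ((mem_center_iff.1 ha) b).symm
  have hPCz : (P : Subgroup X) ≤ Cz := by
    intro x hx
    rw [hCz, mem_centralizer_singleton_iff]
    exact (mem_centralizer_iff.1 hzP x hx)
  have hCzN : Cz ≤ normalizer ((P : Subgroup X) : Set X) := by
    have h1 := ih Cz hCztop (P.subtype hPCz)
    rw [Sylow.coe_subtype] at h1
    exact (normal_subgroupOf_iff_le_normalizer hPCz).1 h1
  have hCz76 : Nat.card Cz ∣ 76 := by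
    rw [← hN76]
    exact Subgroup.card_dvd_of_le hCzN
  have hno8 : ∀ T : Subgroup X, Nat.card T = 8 → ¬ T ≤ Cz := by
    intro T hT hle
    have h1 : 8 ∣ 76 := (hT ▸ Subgroup.card_dvd_of_le hle).trans hCz76
    omega
  -- a Sylow 2-subgroup containing z
  have hzp : IsPGroup 2 (zpowers z) := IsPGroup.of_card (n := 1) (by rw [Nat.card_zpowers, hz2, pow_one])
  obtain ⟨S, hzS'⟩ := hzp.exists_le_sylow
  have hzS : z ∈ (S : Subgroup X) := hzS' (mem_zpowers z)
  have hS8 : Nat.card (S : Subgroup X) = 8 := by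
    obtain ⟨k, hk⟩ := S.2.exists_card_eq
    have h1 := (S : Subgroup X).card_mul_index
    have h2 : ¬ 2 ∣ (S : Subgroup X).index := S.not_dvd_index
    rw [hc] at h1
    have hk' : Nat.card (S : Subgroup X) = 2 ^ k := hk
    rw [hk'] at h1 ⊢
    have hk4 : k < 4 := by
      by_contra hcon
      have h16 : 2 ^ 4 ∣ 2 ^ k := pow_dvd_pow 2 (not_lt.1 hcon)
      have : 2 ^ 4 ∣ 15960 := h1 ▸ (h16.trans (Dvd.intro _ rfl))
      omega
    interval_cases k <;> first | rfl | (exfalso; omega)
  have hSna : ¬ ∀ a ∈ (S : Subgroup X), ∀ b ∈ (S : Subgroup X), a * b = b * a := by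
    intro hab
    apply hno8 S hS8
    intro x hx
    rw [hCz, mem_centralizer_singleton_iff]
    exact hab x hx z hzS
  obtain ⟨c, hcS, hc4⟩ := b_exists_four (S : Subgroup X) hS8 hSna
  have hcle : zpowers c ≤ (S : Subgroup X) := (zpowers_le).2 hcS
  have hidx : (zpowers c).relIndex (S : Subgroup X) = 2 := by
    have h1 := Subgroup.relIndex_mul_relIndex ⊥ (zpowers c) (S : Subgroup X) bot_le hcle
    rw [relIndex_bot_left, relIndex_bot_left, hS8, Nat.card_zpowers, hc4] at h1
    omega
  have hc2 : orderOf (c ^ 2) = 2 := by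
    rw [orderOf_pow_of_dvd (by norm_num) (by rw [hc4]; norm_num), hc4]
  have hnorm : ((zpowers c).subgroupOf (S : Subgroup X)).Normal :=
    Subgroup.normal_of_index_eq_two hidx
  have hcent : ∀ x ∈ (S : Subgroup X), x * c ^ 2 = c ^ 2 * x := by
    intro x hx
    have h1 : (⟨c ^ 2, S.pow_mem hcS 2⟩ : (S : Subgroup X)) ∈ (zpowers c).subgroupOf (S : Subgroup X) :=
      mem_subgroupOf.2 (Subgroup.pow_mem _ (mem_zpowers c) 2)
    have h2 := hnorm.conj_mem _ h1 ⟨x, hx⟩
    rw [mem_subgroupOf] at h2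
    have h3 : x * c ^ 2 * x⁻¹ ∈ zpowers c := h2
    have h4 := b_invol hc4 h3 (by rw [b_conj_order, hc2])
    exact mul_inv_eq_iff_eq_mul.1 h4
  have hzc : z ∉ zpowers c := by
    intro hmem
    have h1 := b_invol hc4 hmem hz2
    apply hno8 S hS8
    intro x hx
    rw [hCz, mem_centralizer_singleton_iff, h1]
    exact hcent x hx
  rcases Cfsg.Agent.S0111.result S (zpowers c) hcle hidx z hz2 hzS hzc with ⟨M, hMn, hMi, -⟩ | ⟨g, hg⟩
  · rcases hMn.eq_bot_or_eq_top with h | h
    · rw [h, index_bot, hc] at hMi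
      omega
    · rw [h, index_top] at hMi
      omega
  · have h1 := b_invol hc4 hg (by rw [b_conj_order, hz2])
    apply hno8 ((S : Subgroup X).map (MulAut.conj g⁻¹).toMonoidHom)
      (by rw [Subgroup.card_map_of_injective (MulAut.conj g⁻¹).injective, hS8])
    rintro _ ⟨x, hx, rfl⟩
    rw [hCz, mem_centralizer_singleton_iff]
    change g⁻¹ * x * g⁻¹⁻¹ * z = z * (g⁻¹ * x * g⁻¹⁻¹)
    have h2 := hcent x hx
    rw [← h1] at h2
    rw [inv_inv]
    have h3 : g⁻¹ * (x * (g * z * g⁻¹)) * g = g⁻¹ * x * g * z := by group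
    have h4 : g⁻¹ * ((g * z * g⁻¹) * x) * g = z * (g⁻¹ * x * g) := by group
    rw [← h3, ← h4, h2]

end Cfsg.Agent.Lib.Helper70.J1O
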