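import Cfsg.Agent.Lib.Helper70.J1O.Tk2
import Cfsg.Agent.Lib.Helper70.J1O.T8
import Cfsg.Agent.Lib.Helper70.J1O.N19A

set_option autoImplicit false

namespace Cfsg.Agent.Lib.Helper70.J1O

universe u

variable {X : Type u} [Group X] [Finite X]



/-- divisors of `M` that are `1 mod p` and at least `19` -/
theorem d_mem_filter {M p n N : ℕ} (hM : M ≠ 0) (h : n * N = M) (h1 : n % p = 1) (h2 : 19 ≤ n) :
    n ∈ (Nat.divisors M).filter (fun n => n % p = 1 ∧ 19 ≤ n) :=
  Finset.mem_filter.mpr ⟨Nat.mem_divisors.mpr ⟨⟨N, h.symm⟩, hM⟩, h1, h2⟩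

theorem d_brauer12 (h u : ℕ) (hh : 0 < h) (hu : 0 < u)
    (e : 12 * (u + 1) = h * u * 11 + u ^ 2 + u + h) : False := by
  have hu3 : u ≤ 3 := by
    by_contra hcon
    have h4 : 4 ≤ u := by omega
    nlinarith [Nat.mul_le_mul hh hu]
  have hh3 : h ≤ 3 := by
    by_contra hcon
    have h4 : 4 ≤ h := by omega
    nlinarith [Nat.mul_le_mul h4 hu]
  interval_cases u <;> interval_cases h <;> omega

theorem caseD [IsSimpleGroup X] (hna : ¬ ∀ a b : X, a * b = b * a) (hc : Nat.card X = 58520) : False := by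
  obtain ⟨P19⟩ : Nonempty (Sylow 19 X) := inferInstance
  obtain ⟨P11⟩ : Nonempty (Sylow 11 X) := inferInstance
  have hP19 : Nat.card P19 = 19 := card_syl 19 P19 (by rw [hc]; norm_num) (by rw [hc]; norm_num)
  have hP11 : Nat.card P11 = 11 := card_syl 11 P11 (by rw [hc]; norm_num) (by rw [hc]; norm_num)
  obtain ⟨-, e19, -, d19⟩ := syl_data 19 P19 hP19
  obtain ⟨m11, e11, c11, d11⟩ := syl_data 11 P11 hP11
  rw [hc] at e19 e11
  have hN19 : nN P19 = 38 := by
    rcases n19 hna (by rw [hc]; norm_num) (by rw [hc]; norm_num) with h | h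
    · rw [h] at e19; omega
    · rw [h] at e19; omega
  have g11 : 19 ≤ Nat.card (Sylow 11 X) := nsyl_ge hna (by rw [hc]; norm_num) 11 (by rw [hc]; norm_num)
  obtain ⟨N', hN'⟩ : 11 ∣ nN P11 := c11.trans d11
  have e11' : Nat.card (Sylow 11 X) * N' = 5320 := by
    rw [hN'] at e11
    have h0 : Nat.card (Sylow 11 X) * (11 * N') = 11 * (Nat.card (Sylow 11 X) * N') := by ring
    have h1 : 11 * (Nat.card (Sylow 11 X) * N') = 11 * 5320 := by rw [← h0, e11]
    exact Nat.eq_of_mul_eq_mul_left (by norm_num) h1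
  have hmem := d_mem_filter (by norm_num) e11' m11 g11
  have hset : (Nat.divisors 5320).filter (fun n => n % 11 = 1 ∧ 19 ≤ n) = {56, 133, 760} := by
    decide +kernel
  rw [hset] at hmem
  simp only [Finset.mem_insert, Finset.mem_singleton] at hmem
  rcases hmem with h | h | h
  · -- 56
    have hN : nN P11 = 1045 := by rw [h] at e11; omega
    have h1 : 11 ∣ nC P19 := cross 11 19 P11 P19 hP11 hP19 (by rw [hN]; norm_num) (by norm_num) (by norm_num)
    have h2 : 11 ∣ 38 := hN19 ▸ h1.trans d19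
    omega
  · -- 133
    obtain ⟨a, b, ha, hb, hab⟩ := brauer_eq hna 11 P11 hP11 12 (by rw [h]) (Or.inr (Or.inl rfl))
      (by rw [hc]; norm_num) (by rw [hc]; norm_num)
    exact d_brauer12 a b ha hb hab
  · -- 760
    have hN : nN P11 = 77 := by rw [h] at e11; omega
    obtain ⟨e, he1, he2, he3⟩ := burnside hna 11 P11 hP11
    obtain ⟨c, hc'⟩ := c11
    rw [hN, hc'] at he3
    have h7 : e * c = 7 := by
      have h0 : e * (11 * c) = 11 * (e * c) := by ring
      have h1 : 11 * (e * c) = 11 * 7 := by rw [← h0, ← he3]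
      exact Nat.eq_of_mul_eq_mul_left (by norm_num) h1
    have he7 : e ∣ 7 := ⟨c, h7.symm⟩
    have he10 : e ∣ 10 := he2
    have : e ∣ 1 := by
      have := Nat.dvd_gcd he7 he10
      simpa using this
    have := Nat.le_of_dvd (by norm_num) this
    omega

end Cfsg.Agent.Lib.Helper70.J1O
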