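import Cfsg.Agent.Lib.Helper70.J1O.ORD
import Cfsg.Agent.Lib.Helper70.J1O.A
import Cfsg.Agent.Lib.Helper70.J1O.B
import Cfsg.Agent.Lib.Helper70.J1O.C
import Cfsg.Agent.Lib.Helper70.J1O.D
import Cfsg.Agent.Lib.Helper70.J1O.E
import Cfsg.Agent.Lib.Helper70.J1O.STEP

set_option autoImplicit false
set_option linter.unusedSectionVars false

namespace Cfsg.Agent.Lib.Helper70.J1O

universe u

variable {X : Type u} [Group X] [Finite X]

/-! ## final induction -/

theorem n19_of_not_dvd (h : ¬ 19 ∣ Nat.card X) : N19 X := by
  intro P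
  have hP : (P : Subgroup X) = ⊥ := by
    obtain ⟨n, hn⟩ := IsPGroup.iff_card.mp P.2
    have hdvd : Nat.card (P : Subgroup X) ∣ Nat.card X := Subgroup.card_subgroup_dvd_card _
    rcases Nat.eq_zero_or_pos n with rfl | hpos
    · rw [pow_zero] at hn
      exact Subgroup.card_eq_one.mp hn
    · exfalso
      apply h
      refine dvd_trans ?_ hdvd
      rw [hn]
      exact dvd_pow_self 19 hpos.ne'
  rw [hP]
  infer_instance

theorem simple_case [IsSimpleGroup X] (hd : Nat.card X ∣ 175560) (hne : Nat.card X ≠ 175560)
    (ih : ∀ H : Subgroup X, H ≠ ⊤ → N19 H) : N19 X := by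
  by_cases hna : ∀ a b : X, a * b = b * a
  · intro P
    constructor
    intro n hn g
    rw [hna g n, mul_inv_cancel_right]
    exact hn
  by_cases h19 : 19 ∣ Nat.card X
  · exfalso
    rcases orders hna hd hne h19 with h | h | h | h
    · exact caseA hna h
    · exact caseB hna h ih
    · exact caseD hna h
    · rcases n19 hna hd h19 with hn | hn
      · exact caseC hna h hn
      · exact caseE hna h hn
  · exact n19_of_not_dvd h19

theorem claim : ∀ d : ℕ, d ∣ 175560 → d ≠ 175560 →
    ∀ (X : Type u) [Group X] [Finite X], Nat.card X = d → N19 X := by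
  intro d
  induction d using Nat.strong_induction_on with
  | _ d ih =>
    intro hd hne X _ _ hX
    have hsub : ∀ H : Subgroup X, H ≠ ⊤ → N19 H := by
      intro H hH
      have hdvd : Nat.card H ∣ d := hX ▸ Subgroup.card_subgroup_dvd_card H
      have hlt : Nat.card H < d := by
        rw [← hX]
        rcases lt_or_eq_of_le (Subgroup.card_le_card_group H) with h | h
        · exact h
        · exact absurd (Subgroup.eq_top_of_card_eq H h) hH
      have hd0 : d ≤ 175560 := Nat.le_of_dvd (by norm_num) hd
      exact ih _ hlt (dvd_trans hdvd hd) (by omega) H rfl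
    by_cases hs : IsSimpleGroup X
    · exact simple_case (hX ▸ hd) (hX ▸ hne) hsub
    · by_cases hnt : Nontrivial X
      · -- a proper nontrivial normal subgroup
        have : ∃ N : Subgroup X, N.Normal ∧ N ≠ ⊥ ∧ N ≠ ⊤ := by
          by_contra hcon
          push Not at hcon
          apply hs
          exact ⟨fun N hN => by
            by_cases hb : N = ⊥
            · exact Or.inl hb
            · exact Or.inr (hcon N hN hb)⟩
        obtain ⟨N, hN, hb, ht⟩ := this
        have h1 : N19 N := hsub N ht
        have hq : Nat.card (X ⧸ N) * Nat.card N = d := by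
          rw [← hX]; exact (Subgroup.card_eq_card_quotient_mul_card_subgroup N).symm
        have hN1 : 1 < Nat.card N := by
          rcases Nat.lt_or_ge 1 (Nat.card N) with h | h
          · exact h
          · exfalso
            have hpos : 0 < Nat.card N := Nat.card_pos
            exact hb (Subgroup.card_eq_one.mp (by omega))
        have hd0 : 0 < d := Nat.pos_of_dvd_of_pos hd (by norm_num)
        have hqlt : Nat.card (X ⧸ N) < d := by
          have hqpos : 0 < Nat.card (X ⧸ N) := Nat.card_pos
          nlinarith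
        have hd1 : d ≤ 175560 := Nat.le_of_dvd (by norm_num) hd
        have h2 : N19 (X ⧸ N) :=
          ih _ hqlt (dvd_trans ⟨_, hq.symm⟩ hd) (by omega) (X ⧸ N) rfl
        exact step (hX ▸ hd) N h1 h2
      · have hsubs : Subsingleton X := not_nontrivial_iff_subsingleton.mp hnt
        apply n19_of_not_dvd
        rw [Nat.card_eq_one_iff_unique.mpr ⟨hsubs, ⟨1⟩⟩]
        norm_num

theorem final {G : Type u} [Group G] [Finite G] (hG : Nat.card G = 175560) :
    IsSimpleGroup G ∨ ∀ P : Sylow 19 G, (P : Subgroup G).Normal := by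
  by_cases hs : IsSimpleGroup G
  · exact Or.inl hs
  right
  have hnt : Nontrivial G := by
    apply Finite.one_lt_card_iff_nontrivial.mp
    rw [hG]; norm_num
  have : ∃ N : Subgroup G, N.Normal ∧ N ≠ ⊥ ∧ N ≠ ⊤ := by
    by_contra hcon
    push Not at hcon
    apply hs
    exact ⟨fun N hN => by
      by_cases hb : N = ⊥
      · exact Or.inl hb
      · exact Or.inr (hcon N hN hb)⟩
  obtain ⟨N, hN, hb, ht⟩ := this
  have hq : Nat.card (G ⧸ N) * Nat.card N = 175560 := by
    rw [← hG]; exact (Subgroup.card_eq_card_quotient_mul_card_subgroup N).symm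
  have hN1 : 1 < Nat.card N := by
    rcases Nat.lt_or_ge 1 (Nat.card N) with h | h
    · exact h
    · exfalso
      have hpos : 0 < Nat.card N := Nat.card_pos
      exact hb (Subgroup.card_eq_one.mp (by omega))
  have hNlt : Nat.card N ≠ 175560 := by
    intro h
    exact ht (Subgroup.eq_top_of_card_eq N (by rw [h, hG]))
  have hqne : Nat.card (G ⧸ N) ≠ 175560 := by
    intro h
    rw [h] at hq
    nlinarith
  have h1 : N19 N := claim _ ⟨_, by rw [mul_comm]; exact hq.symm⟩ hNlt N rfl
  have h2 : N19 (G ⧸ N) := claim _ ⟨_, hq.symm⟩ hqne (G ⧸ N) rfl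
  exact step (by rw [hG]) N h1 h2

end Cfsg.Agent.Lib.Helper70.J1O
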