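import Cfsg.Agent.Lib.Helper70.J1O.Tk1
import Cfsg.Agent.Lib.Helper70.J1O.Tk2
import Cfsg.Agent.Lib.Helper70.J1O.N19A

set_option autoImplicit false

namespace Cfsg.Agent.Lib.Helper70.J1O

universe u

variable {X : Type u} [Group X] [Finite X]

theorem ord_arith (n N C e M : ℕ) (hn : n = 210 ∨ n = 1540) (h2 : n * N = M) (hd : M ∣ 175560)
    (hne : M ≠ 175560) (h3 : 19 ∣ C) (he1 : 1 < e) (he : e ∣ 19 - 1) (hN : N = e * C) :
    M = 7980 ∨ M = 15960 ∨ M = 58520 ∨ M = 87780 := by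
  obtain ⟨c, rfl⟩ := h3
  subst hN
  rcases hn with rfl | rfl
  · have h5 : (210 * 19) * (e * c) ∣ (210 * 19) * 44 := by
      have e1 : (210 * 19) * (e * c) = 210 * (e * (19 * c)) := by ring
      rw [e1, h2]; exact hd
    have h6 : e * c ∣ 44 := Nat.dvd_of_mul_dvd_mul_left (by norm_num) h5
    have h7 : e ∣ Nat.gcd 18 44 := Nat.dvd_gcd he ((Dvd.intro _ rfl).trans h6)
    have h8 : e ≤ 2 := Nat.le_of_dvd (by norm_num) h7
    have h9 : e = 2 := by omega
    subst h9
    have h10 : c ∣ 22 := Nat.dvd_of_mul_dvd_mul_left (by norm_num : 0 < 2) (by simpa using h6)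
    have h11 : c ≤ 22 := Nat.le_of_dvd (by norm_num) h10
    interval_cases c <;> first | omega | (exfalso; revert h10; decide)
  · have h5 : (1540 * 19) * (e * c) ∣ (1540 * 19) * 6 := by
      have e1 : (1540 * 19) * (e * c) = 1540 * (e * (19 * c)) := by ring
      rw [e1, h2]; exact hd
    have h6 : e * c ∣ 6 := Nat.dvd_of_mul_dvd_mul_left (by norm_num) h5
    have h7 : e * c ≤ 6 := Nat.le_of_dvd (by norm_num) h6
    have hc0 : 0 < c := by
      rcases Nat.eq_zero_or_pos c with rfl | h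
      · simp at h6
      · exact h
    have h8 : e ≤ 6 := le_trans (Nat.le_mul_of_pos_right e hc0) h7
    have h9 : c ≤ 3 := by nlinarith
    interval_cases e <;> interval_cases c <;> first | omega | (exfalso; revert h6; decide)

/-- ORD -/
theorem orders [IsSimpleGroup X] (hna : ¬ ∀ a b : X, a * b = b * a) (hd : Nat.card X ∣ 175560)
    (hne : Nat.card X ≠ 175560) (h19 : 19 ∣ Nat.card X) :
    Nat.card X = 7980 ∨ Nat.card X = 15960 ∨ Nat.card X = 58520 ∨ Nat.card X = 87780 := by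
  obtain ⟨P⟩ : Nonempty (Sylow 19 X) := inferInstance
  have h361 : ¬ 19 ^ 2 ∣ Nat.card X := fun h => by
    have := h.trans hd
    norm_num at this
  have hP := card_syl 19 P h19 h361
  obtain ⟨h1, h2, h3, h4⟩ := syl_data 19 P hP
  obtain ⟨e, he1, he, hN⟩ := burnside hna 19 P hP
  exact ord_arith _ _ _ e _ (n19 hna hd h19) h2 hd hne h3 he1 he hN

end Cfsg.Agent.Lib.Helper70.J1O
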