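import Cfsg.Agent.Lib.Helper70.J1O.Defs

set_option autoImplicit false

namespace Cfsg.Agent.Lib.Helper70.J1O

universe u

variable {X : Type u} [Group X] [Finite X]

/-- T7 -/
theorem sum_orders_le (s : Finset ℕ) : ∑ m ∈ s, nO X m ≤ Nat.card X := by
  classical
  have : Fintype X := Fintype.ofFinite X
  have h1 : ∀ m, nO X m = (Finset.univ.filter (fun x : X => orderOf x = m)).card := by
    intro m
    unfold nO
    rw [Nat.card_eq_fintype_card, Fintype.card_subtype]
  simp only [h1]
  rw [Finset.sum_card_fiberwise_eq_card_filter, Nat.card_eq_fintype_card, ← Finset.card_univ]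
  exact Finset.card_filter_le _ _

end Cfsg.Agent.Lib.Helper70.J1O
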