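import Cfsg.Agent.Lib.Helper70.J1O.Defs

set_option autoImplicit false

namespace Cfsg.Agent.Lib.Helper70.J1O

universe u

variable {X : Type u} [Group X] [Finite X]

omit [Finite X] in
theorem t9_aux (φ : X ≃* X) (H K : Subgroup X) (hK : ∀ x, φ x ∈ K ↔ x ∈ H) :
    Nat.card (Subgroup.normalizer (H : Set X)) = Nat.card (Subgroup.normalizer (K : Set X)) ∧
    Nat.card (Subgroup.centralizer (H : Set X)) = Nat.card (Subgroup.centralizer (K : Set X)) := by
  constructor
  · apply Nat.card_congr
    refine Equiv.subtypeEquiv φ.toEquiv (fun a => ?_)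
    show a ∈ Subgroup.normalizer (H : Set X) ↔ φ a ∈ Subgroup.normalizer (K : Set X)
    rw [Subgroup.mem_normalizer_iff, Subgroup.mem_normalizer_iff]
    constructor
    · intro h y
      obtain ⟨x, rfl⟩ := φ.surjective y
      rw [hK, ← map_inv, ← map_mul, ← map_mul, hK]
      exact h x
    · intro h x
      have h1 := h (φ x)
      rw [hK, ← map_inv, ← map_mul, ← map_mul, hK] at h1
      exact h1
  · apply Nat.card_congr
    refine Equiv.subtypeEquiv φ.toEquiv (fun a => ?_)
    show a ∈ Subgroup.centralizer (H : Set X) ↔ φ a ∈ Subgroup.centralizer (K : Set X)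
    rw [Subgroup.mem_centralizer_iff, Subgroup.mem_centralizer_iff]
    constructor
    · intro h y hy
      obtain ⟨x, rfl⟩ := φ.surjective y
      rw [← map_mul, ← map_mul, h x ((hK x).1 hy)]
    · intro h x hx
      have h1 := h (φ x) ((hK x).2 hx)
      rw [← map_mul, ← map_mul] at h1
      exact φ.injective h1

/-- T9: nN, nC do not depend on the Sylow subgroup -/
theorem nN_eq (p : ℕ) [Fact p.Prime] (P Q : Sylow p X) : nN P = nN Q ∧ nC P = nC Q := by
  obtain ⟨g, rfl⟩ := MulAction.exists_smul_eq X P Q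
  refine t9_aux (MulAut.conj g) (P : Subgroup X) ((g • P : Sylow p X) : Subgroup X) (fun x => ?_)
  rw [Sylow.coe_subgroup_smul, ← MulAut.smul_def, Subgroup.smul_mem_pointwise_smul_iff]

end Cfsg.Agent.Lib.Helper70.J1O
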